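import Groth.Agent.S1116
import Groth.Agent.S0002
import Groth.Agent.CurvesC.HomHV
import Groth.Agent.PerfA.BddDev
import Groth.Agent.PerfA.QCohD
import Groth.Agent.PerfC.RHomPc175
import Groth.Agent.PerfB.TensExact
import Groth.Prelude.Def_KLin

/-!
# Finiteness of `Hom` in `D(O_X)` for `X` proper over a Noetherian ring

* `tensorCx_smul`, `LTX_smul`: the (derived) tensor product is linear over the base ring.
* `homTens`: `Hom(O_X, RHom(K, L)) ≃ₗ[A] Hom(K, L)`.
* `finite_OHom`: `Hom(O_X, L)` is a finite `A`-module for `L ∈ D⁺_coh`.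
* `finite_Hom`: `Hom(K, L)` is a finite `A`-module for `K ∈ D⁻_coh` and `L ∈ D⁺_coh`.
-/

set_option autoImplicit false

universe u

open CategoryTheory CategoryTheory.Limits AlgebraicGeometry Pretriangulated MonoidalCategory

attribute [local instance] HasDerivedCategory.standard

namespace K233.ExtFin

open Groth.Agent Groth.Agent.PerfC.DBif Groth.Agent.PerfC.DTens Groth.Agent.PerfC.RHomD
open scoped Groth.Agent.Dcoh.MonCat Groth.Agent.Dcoh.ModD

variable {A : Type u} [CommRing A]

section lin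

variable {M₁ M₂ M₃ : Type*} [AddCommGroup M₁] [Module A M₁] [AddCommGroup M₂] [Module A M₂]
  [AddCommGroup M₃] [Module A M₃]

theorem finite_of_exact [IsNoetherianRing A] (f : M₁ →ₗ[A] M₂) (g : M₂ →ₗ[A] M₃)
    (h : ∀ x, g x = 0 → ∃ y, f y = x) [Module.Finite A M₁] [Module.Finite A M₃] :
    Module.Finite A M₂ := by
  have h1 : Module.Finite A (LinearMap.ker g) := by
    have h2 : LinearMap.ker g ≤ LinearMap.range f := fun x hx => by
      obtain ⟨y, rfl⟩ := h x hx
      exact ⟨y, rfl⟩
    exact Module.Finite.of_injective (Submodule.inclusion h2) (Submodule.inclusion_injective h2)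
  have h3 : Module.Finite A (M₂ ⧸ LinearMap.ker g) :=
    Module.Finite.equiv g.quotKerEquivRange.symm
  exact Module.Finite.of_submodule_quotient (LinearMap.ker g)

end lin

variable {X : Scheme.{u}} [X.Over (Spec (CommRingCat.of A))]

theorem finite_of_iso {K L L' : DCoh.D X} (e : L ≅ L') (h : Module.Finite A (K ⟶ L)) :
    Module.Finite A (K ⟶ L') :=
  Module.Finite.equiv (Linear.homCongr A (Iso.refl K) e)

theorem finite_of_iso' {K K' L : DCoh.D X} (e : K ≅ K') (h : Module.Finite A (K ⟶ L)) :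
    Module.Finite A (K' ⟶ L) :=
  Module.Finite.equiv (Linear.homCongr A e (Iso.refl L))

theorem finite_tri [IsNoetherianRing A] (K : DCoh.D X) (T : Triangle (DCoh.D X))
    (hT : T ∈ distinguishedTriangles) (h1 : ∀ n : ℤ, Module.Finite A (K ⟶ T.obj₁⟦n⟧))
    (h3 : ∀ n : ℤ, Module.Finite A (K ⟶ T.obj₃⟦n⟧)) (n : ℤ) : Module.Finite A (K ⟶ T.obj₂⟦n⟧) := by
  have hT' := Triangle.shift_distinguished T hT n
  have := h1 n
  have := h3 n
  let f : (K ⟶ T.obj₁⟦n⟧) →ₗ[A] (K ⟶ T.obj₂⟦n⟧) :=
    Linear.rightComp A K (((Triangle.shiftFunctor _ n).obj T).mor₁)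
  let g : (K ⟶ T.obj₂⟦n⟧) →ₗ[A] (K ⟶ T.obj₃⟦n⟧) :=
    Linear.rightComp A K (((Triangle.shiftFunctor _ n).obj T).mor₂)
  refine finite_of_exact f g fun x hx => ?_
  obtain ⟨y, hy⟩ := Triangle.coyoneda_exact₂ _ hT' x hx
  exact ⟨y, hy.symm⟩

/-- `Hom(O_X, F[n])` is finite. -/
theorem finite_single [IsNoetherianRing A] [IsProper (X ↘ Spec (CommRingCat.of A))] (F : X.Modules)
    (hF : Coh.IsCoh F) (n : ℤ) :
    Module.Finite A (DCoh.inD X (Coh.structureModule X) ⟶ (DCoh.inD X F)⟦n⟧) := by
  obtain hn | hn := lt_or_ge n 0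
  · have h : Subsingleton (DCoh.inD X (Coh.structureModule X) ⟶ (DCoh.inD X F)⟦n⟧) := by
      refine ⟨fun x y => ?_⟩
      have h1 : DerivedCategory.TStructure.t.IsGE ((DCoh.inD X F)⟦n⟧) (-n) :=
        DerivedCategory.TStructure.t.isGE_shift _ 0 n (-n) (by omega)
      have h2 : DerivedCategory.TStructure.t.IsLE (DCoh.inD X (Coh.structureModule X)) 0 :=
        inferInstance
      rw [DerivedCategory.TStructure.t.zero_of_isLE_of_isGE x 0 (-n) (by omega) h2 h1,
        DerivedCategory.TStructure.t.zero_of_isLE_of_isGE y 0 (-n) (by omega) h2 h1]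
    infer_instance
  · obtain ⟨m, rfl⟩ := Int.eq_ofNat_of_zero_le hn
    have h1 : Module.Finite A (Coh.HH X F m) := S0002.result A X F hF m
    have h2 : Module.Finite A (CurvesC.HV X F m) :=
      Module.Finite.equiv (CurvesC.HV.equiv A F m).symm
    let e : (DCoh.inD X (Coh.structureModule X) ⟶ (DCoh.inD X F)⟦(m : ℤ)⟧) ≃ₗ[A] CurvesC.HV X F m :=
      { CurvesC.HomHV.homHV F m with
        map_smul' := fun a s => by
          have h3 := CurvesC.HomHV.homHV_smul A a F m s
          rw [← KLin.smul_id, Functor.map_smul, CategoryTheory.Functor.map_id, Linear.smul_comp,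
            Category.id_comp] at h3
          exact h3 }
    exact Module.Finite.equiv e.symm

/-- `Hom(O_X, L[n])` is finite for `L` bounded coherent. -/
theorem finite_bdd [IsNoetherianRing A] [IsProper (X ↘ Spec (CommRingCat.of A))] (L : DCoh.D X)
    (a b : ℤ) [L.IsGE a] [L.IsLE b] (hL : DCoh.IsCohD L) (n : ℤ) :
    Module.Finite A (DCoh.inD X (Coh.structureModule X) ⟶ L⟦n⟧) := by
  refine PerfA.BddDev.devissage (fun M : X.Modules => Coh.IsCoh M)
    (fun L => ∀ n : ℤ, Module.Finite A (DCoh.inD X (Coh.structureModule X) ⟶ L⟦n⟧))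
    ?_ ?_ ?_ L a b hL n
  · intro K L e h n
    exact finite_of_iso ((shiftFunctor _ n).mapIso e) (h n)
  · intro M m hM n
    have e : (DerivedCategory.singleFunctor X.Modules m).obj M ≅ (DCoh.inD X M)⟦-m⟧ :=
      (((DerivedCategory.singleFunctors X.Modules).shiftIso (-m) m 0 (by omega)).app M).symm
    exact finite_of_iso (((shiftFunctor _ n).mapIso e ≪≫
      ((shiftFunctorAdd' (DCoh.D X) (-m) n (-m + n) rfl).app _).symm).symm)
      (finite_single M hM (-m + n))
  · intro T hT h1 h3 n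
    exact finite_tri _ T hT h1 h3 n

/-- `Hom(O_X, L)` is finite for `L ∈ D⁺_coh`. -/
theorem finite_OHom [IsNoetherianRing A] [IsProper (X ↘ Spec (CommRingCat.of A))] (L : DCoh.D X)
    (a : ℤ) [L.IsGE a] (hL : DCoh.IsCohD L) :
    Module.Finite A (DCoh.inD X (Coh.structureModule X) ⟶ L) := by
  let t := DerivedCategory.TStructure.t (C := X.Modules)
  have h1 : (DerivedCategory.TStructure.t.truncLT (1 : ℤ)).obj L |>.IsGE a :=
    PerfA.BddDev.isGE_truncLT L 1 a
  have h2 : (DerivedCategory.TStructure.t.truncLT (1 : ℤ)).obj L |>.IsLE 0 :=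
    DerivedCategory.TStructure.t.isLE_truncLT_obj L 1 0
  have h3 : DCoh.IsCohD ((DerivedCategory.TStructure.t.truncLT (1 : ℤ)).obj L) :=
    PerfA.CohomIn.coh_truncLT (fun M : X.Modules => Coh.IsCoh M) L 1 hL
  have h4 := finite_bdd (A := A) ((DerivedCategory.TStructure.t.truncLT (1 : ℤ)).obj L) a 0 h3 0
  have h5 : Module.Finite A (DCoh.inD X (Coh.structureModule X) ⟶
      (DerivedCategory.TStructure.t.truncLT (1 : ℤ)).obj L) :=
    finite_of_iso ((shiftFunctorZero (DCoh.D X) ℤ).app _) h4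
  have hT := DerivedCategory.TStructure.t.triangleLTGE_distinguished 1 L
  have h5' : Module.Finite A (DCoh.inD X (Coh.structureModule X) ⟶
      ((DerivedCategory.TStructure.t.triangleLTGE 1).obj L).obj₁) := h5
  refine Module.Finite.of_surjective (Linear.rightComp A (DCoh.inD X (Coh.structureModule X))
    ((DerivedCategory.TStructure.t.triangleLTGE 1).obj L).mor₁) fun x => ?_
  have h6 : DerivedCategory.TStructure.t.IsLE (DCoh.inD X (Coh.structureModule X)) 0 := inferInstance
  obtain ⟨y, hy⟩ := Triangle.coyoneda_exact₂ _ hT x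
    (DerivedCategory.TStructure.t.zero_of_isLE_of_isGE _ 0 1 (by omega) h6
      (inferInstanceAs (DerivedCategory.TStructure.t.IsGE
        ((DerivedCategory.TStructure.t.truncGE 1).obj L) 1)))
  exact ⟨y, hy.symm⟩

section tensor

theorem tensorBi_smul (P N : X.Modules) (b : A) :
    ((DCoh.tensorBi (X := X)).map (Formal.smulMod A N b)).app P =
      Formal.smulMod A (((DCoh.tensorBi (X := X)).obj N).obj P) b := by
  refine Ega2.Tens.hom_ext (M := N) (N := P) (P := CohB1.tensorMod N P) _ _ fun U m n => ?_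
  refine (PerfB.TensExact.tensorRightMod_map_tmul P (Formal.smulMod A N b) U m n).trans ?_
  exact Ega2.Tens.smul_tmul (M := N) (N := P) _ m n

theorem tensorCx_smul (K E : CochainComplex X.Modules ℤ) (a : A) :
    ((DCoh.tensorCx (X := X)).map (a • 𝟙 K)).app E = a • 𝟙 _ := by
  apply HomologicalComplex.hom_ext
  intro j
  apply HomologicalComplex.mapBifunctor.hom_ext
  intro i₁ i₂ h
  change HomologicalComplex.ιMapBifunctor _ _ _ _ _ _ _ _ ≫
    (HomologicalComplex.mapBifunctorMap _ _ _ _).f j = _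
  rw [HomologicalComplex.ι_mapBifunctorMap]
  simp only [HomologicalComplex.smul_f_apply, HomologicalComplex.id_f,
    CategoryTheory.Functor.map_id, Category.id_comp]
  rw [KLin.smul_id, tensorBi_smul, ← KLin.smul_id, Linear.smul_comp, Category.id_comp]
  exact ((Linear.comp_smul _ _ _ _ _ _).trans
    (congrArg (fun f => a • f) (Category.comp_id _))).symm

/-- `- ⊗ᴸ K` is linear on `a • 𝟙`. -/
theorem LTX_smul (M K : DCoh.D X) (a : A) :
    ((LTX X).map (a • 𝟙 M)).app K = a • 𝟙 _ := by
  -- K-flat representatives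
  obtain ⟨C, q, hC, -, hq, -⟩ := S0955.result (DerivedCategory.Q.objPreimage M)
  have := hq
  let e : DerivedCategory.Q.obj C ≅ M :=
    asIso (DerivedCategory.Q.map q) ≪≫ DerivedCategory.Q.objObjPreimageIso M
  let E := DerivedCategory.Q.objPreimage K
  let e' : DerivedCategory.Q.obj E ≅ K := DerivedCategory.Q.objObjPreimageIso K
  have h1 : ((LTX X).map (a • 𝟙 (DerivedCategory.Q.obj C))).app (DerivedCategory.Q.obj E) =
      a • 𝟙 _ := by
    have := isIso_κX C E hC
    rw [← cancel_mono (κX C E)]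
    have h2 := κX_nat₁ (a • 𝟙 C) E
    have h3 : DerivedCategory.Q.map (a • 𝟙 C) = a • 𝟙 (DerivedCategory.Q.obj C) := by
      rw [Functor.map_smul, CategoryTheory.Functor.map_id]
    have h4 : DerivedCategory.Q.map (a • 𝟙 ((DCoh.tensorCx.obj C).obj E)) =
        a • 𝟙 (DerivedCategory.Q.obj ((DCoh.tensorCx.obj C).obj E)) := by
      rw [Functor.map_smul, CategoryTheory.Functor.map_id]
    rw [h3, tensorCx_smul, h4] at h2
    rw [h2, Linear.smul_comp, Linear.comp_smul, Category.id_comp, Category.comp_id]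
  have h2 : ((LTX X).map (a • 𝟙 (DerivedCategory.Q.obj C))).app K = a • 𝟙 _ := by
    rw [← cancel_epi (((LTX X).obj (DerivedCategory.Q.obj C)).map e'.hom)]
    rw [((LTX X).map (a • 𝟙 (DerivedCategory.Q.obj C))).naturality e'.hom, h1,
      Linear.smul_comp, Linear.comp_smul, Category.id_comp, Category.comp_id]
  rw [← cancel_epi (((LTX X).map e.hom).app K), ← NatTrans.comp_app, ← Functor.map_comp,
    Linear.comp_smul, Category.comp_id, Linear.comp_smul, Category.comp_id]
  have h3 : a • e.hom = (a • 𝟙 _) ≫ e.hom := by rw [Linear.smul_comp, Category.id_comp]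
  rw [h3, Functor.map_comp, NatTrans.comp_app, h2, Linear.smul_comp, Category.id_comp]

/-- `O_X ⊗ᴸ K ≅ K`. -/
noncomputable def unitTensorIso (K : DCoh.D X) :
    ((LTX X).flip.obj K).obj (DCoh.inD X (Coh.structureModule X)) ≅ K :=
  ((LTX X).flip.obj K).mapIso (Dcoh.DualX.unitIso X) ≪≫
    (PerfC.RHomPc175.flipIso K).app (𝟙_ (DCoh.D X)) ≪≫ λ_ K

/-- `Hom(O_X, RHom(K, L)) ≅ Hom(O_X ⊗ K, L)`, linearly. -/
noncomputable def homTens (K L : DCoh.D X) :
    (DCoh.inD X (Coh.structureModule X) ⟶ (RH K).obj L) ≃ₗ[A]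
      (((LTX X).flip.obj K).obj (DCoh.inD X (Coh.structureModule X)) ⟶ L) :=
  { ((rhAdj K).homEquiv (DCoh.inD X (Coh.structureModule X)) L).symm with
    map_add' := fun f g => by
      have := additive_LTX_flip K
      change ((rhAdj K).homEquiv _ _).symm (f + g) = ((rhAdj K).homEquiv _ _).symm f +
        ((rhAdj K).homEquiv _ _).symm g
      rw [Adjunction.homEquiv_counit, Adjunction.homEquiv_counit, Adjunction.homEquiv_counit,
        Functor.map_add, Preadditive.add_comp]
    map_smul' := fun a f => by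
      change ((rhAdj K).homEquiv _ _).symm (a • f) = a • ((rhAdj K).homEquiv _ _).symm f
      rw [Adjunction.homEquiv_counit, Adjunction.homEquiv_counit]
      have h1 : a • f = (a • 𝟙 _) ≫ f := by rw [Linear.smul_comp, Category.id_comp]
      have h2 : ((LTX X).flip.obj K).map (a • 𝟙 (DCoh.inD X (Coh.structureModule X))) = a • 𝟙 _ :=
        LTX_smul _ K a
      rw [h1, Functor.map_comp, h2, Linear.smul_comp, Category.id_comp, Linear.smul_comp] }

end tensor

/-- `Hom(K, L)` is finite for `K ∈ D⁻_coh` and `L ∈ D⁺_coh`. -/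
theorem finite_Hom [IsNoetherianRing A] [IsProper (X ↘ Spec (CommRingCat.of A))] (K L : DCoh.D X)
    (b : ℤ) [K.IsLE b] (hK : DCoh.IsCohD K) (a : ℤ) [L.IsGE a] (hL : DCoh.IsCohD L) :
    Module.Finite A (K ⟶ L) := by
  have : IsLocallyNoetherian X :=
    LocallyOfFiniteType.isLocallyNoetherian (X ↘ Spec (CommRingCat.of A))
  have hpc : ∀ m : ℤ, DCoh.IsPseudoCoherentD m K := fun m =>
    PerfB.PCNoeth.pc_of_isCoh ((b - m).toNat + 1) K b m inferInstance
      (by have := Int.self_le_toNat (b - m); push_cast; omega) (fun i _ => hK i)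
  have h1 : DCoh.IsCohD ((RH K).obj L) :=
    PerfC.RHomPC346.coh_rh_pc PerfC.RHomSerre.locSerre_coh
      (X := X) inferInstance hpc a inferInstance hL
  have h2 : ((RH K).obj L).IsGE (a - b) := PerfC.RHomBnd556.isGE_RH K L a b
  have h3 : Module.Finite A (DCoh.inD X (Coh.structureModule X) ⟶ (RH K).obj L) :=
    finite_OHom _ (a - b) h1
  exact finite_of_iso' (unitTensorIso K) (Module.Finite.equiv (homTens K L))

end K233.ExtFin
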