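import Groth.Agent.EGA2.K36.SpecLocal
import Mathlib.AlgebraicGeometry.Morphisms.Finite
import Mathlib.AlgebraicGeometry.Morphisms.Etale

/-!
# The relative spectrum of a direct image algebra and Stein factorisations
-/

set_option autoImplicit false
universe u
open CategoryTheory CategoryTheory.Limits AlgebraicGeometry Opposite

namespace K233.DirIm

theorem isPullback_spec_app {N S : Scheme.{u}} (p : N ⟶ S) [IsAffineHom p] (U : S.Opens)
    (hU : IsAffineOpen U) :
    IsPullback (hU.preimage p).fromSpec (Spec.map (p.app U)) p hU.fromSpec := by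
  refine (IsOpenImmersion.isPullback _ _ _ _ ?_ ?_).flip
  · rw [Scheme.Hom.app_eq_appLE]
    exact (IsAffineOpen.SpecMap_appLE_fromSpec p hU (hU.preimage p) le_rfl).symm
  · rw [IsAffineOpen.opensRange_fromSpec, IsAffineOpen.opensRange_fromSpec]

/-- If `f = h ≫ p` with `p` affine and `h_* O = O`, then `Spec (f_* O) ⟶ S` has all the properties of `p` that
are local on the target and stable under base change. -/
theorem π_directImage {X N S : Scheme.{u}} (f : X ⟶ S) [QuasiCompact f] [QuasiSeparated f]
    (h : X ⟶ N) (p : N ⟶ S) (hf : h ≫ p = f)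
    [IsAffineHom p] (hh : ∀ U : N.Opens, IsIso (h.app U))
    (P : MorphismProperty Scheme.{u}) [IsZariskiLocalAtTarget P] [P.IsStableUnderBaseChange] (hp : P p) :
    P (RelSpec.QCAlg.directImage f).π := by
  apply K36.SpecLocal.π_of_affine
  intro U hU
  have h1 : P (Spec.map (p.app U)) := MorphismProperty.of_isPullback (isPullback_spec_app p U hU) hp
  change P (Spec.map (f.app U))
  subst hf
  have := hh (p ⁻¹ᵁ U)
  have h2 : Spec.map ((h ≫ p).app U) = Spec.map (h.app (p ⁻¹ᵁ U)) ≫ Spec.map (p.app U) := by
    rw [← Spec.map_comp]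
    rfl
  have h3 : P (Spec.map (h.app (p ⁻¹ᵁ U)) ≫ Spec.map (p.app U)) :=
    (P.cancel_left_of_respectsIso _ _).mpr h1
  rw [← h2] at h3
  exact h3

set_option backward.isDefEq.respectTransparency false in
theorem isFinite_directImage {X N S : Scheme.{u}} (f : X ⟶ S) [QuasiCompact f] [QuasiSeparated f]
    (h : X ⟶ N) (p : N ⟶ S) (hf : h ≫ p = f) [IsFinite p] (hh : ∀ U : N.Opens, IsIso (h.app U)) :
    IsFinite (RelSpec.QCAlg.directImage f).π :=
  π_directImage f h p hf hh (@IsFinite : MorphismProperty Scheme.{u}) inferInstance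

set_option backward.isDefEq.respectTransparency false in
theorem etale_directImage {X N S : Scheme.{u}} (f : X ⟶ S) [QuasiCompact f] [QuasiSeparated f]
    (h : X ⟶ N) (p : N ⟶ S) (hf : h ≫ p = f) [IsAffineHom p] [Etale p]
    (hh : ∀ U : N.Opens, IsIso (h.app U)) :
    Etale (RelSpec.QCAlg.directImage f).π :=
  π_directImage f h p hf hh (@Etale : MorphismProperty Scheme.{u}) inferInstance

end K233.DirIm
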