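import Groth.Agent.FlatB.GeomRed
import Mathlib.AlgebraicGeometry.Geometrically.Connected
import Mathlib.AlgebraicGeometry.Morphisms.FormallyUnramified

/-!
# Geometric reducedness: fibrewise criterion and cancellation along unramified morphisms
-/

set_option autoImplicit false
universe u
open CategoryTheory CategoryTheory.Limits AlgebraicGeometry

namespace K233.GeomPost

open Groth.Agent

/-- A morphism whose fibres are geometrically reduced is geometrically reduced. -/
theorem geometricallyReduced_of_fibres {X S : Scheme.{u}} (f : X ⟶ S)
    (h : ∀ s : S, GeometricallyReduced (f.fiberToSpecResidueField s)) : GeometricallyReduced f := by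
  rw [geometricallyReduced_iff, geometrically_iff_of_isClosedUnderIsomorphisms]
  intro K _ y
  have hi := Scheme.descResidueField_stalkClosedPointTo_fromSpecResidueField K S y
  have h1 := (FlatB.GeomRed.geometricallyReduced_fiber_iff f (y (IsLocalRing.closedPoint K))).mp (h _)
    K (Spec.map (S.descResidueField (Scheme.stalkClosedPointTo y)))
  rw [hi] at h1
  exact h1

/-- Restriction of the fibrewise criterion to an open of the base. -/
theorem geometricallyReduced_restrict {X S : Scheme.{u}} (f : X ⟶ S) (V : S.Opens)
    (h : ∀ s ∈ V, GeometricallyReduced (f.fiberToSpecResidueField s)) :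
    GeometricallyReduced (f ∣_ V) :=
  geometricallyReduced_of_fibres _ fun v =>
    (FlatB.GeomRed.geometricallyReduced_fiber_iff_of_isPullback f (f ∣_ V) _ _
      (isPullback_morphismRestrict f V).flip v).mpr (h _ v.2)

/-- Cancellation of geometric reducedness along unramified morphisms. -/
theorem geometricallyReduced_of_comp {X N S : Scheme.{u}} (h : X ⟶ N) (p : N ⟶ S)
    [IsOpenImmersion (pullback.diagonal p)] [hr : GeometricallyReduced (h ≫ p)] :
    GeometricallyReduced h := by
  rw [geometricallyReduced_iff, geometrically_iff_of_isClosedUnderIsomorphisms]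
  intro K _ y
  have h1 : IsReduced (pullback (h ≫ p) (y ≫ p)) :=
    hr.geometrically_isReduced _ _ _ (IsPullback.of_hasPullback _ _)
  have h2 : IsOpenImmersion (pullback.map h y (h ≫ p) (y ≫ p) _ _ p (Category.id_comp _).symm
      (Category.id_comp _).symm) :=
    MorphismProperty.of_isPullback (pullback_map_diagonal_isPullback h y p) inferInstance
  exact isReduced_of_isOpenImmersion (pullback.map h y (h ≫ p) (y ≫ p) _ _ p (Category.id_comp _).symm
      (Category.id_comp _).symm)

end K233.GeomPost
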