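import Groth.Agent.Perf.K233.SplitR
import Groth.Agent.PerfB.ModBC
import Groth.Agent.PerfB.H0Fibre

/-!
# Local splitting of `Rf_* O_X` when `f_* O_X` is locally free and commutes with base change
-/

set_option autoImplicit false
universe u
open CategoryTheory CategoryTheory.Limits AlgebraicGeometry
attribute [local instance] HasDerivedCategory.standard

namespace K233.SplitLoc

open Groth.Agent Groth.Agent.Dcoh Groth.Agent.Dcoh.LocalD Groth.Agent.PerfB Groth.Agent.PerfB.StructFlat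

/-- `K ≅ H^0(K) ⊞ C` with `C` a bounded complex of finite locally free modules in degrees `≥ 1`. -/
def SplitD : PropD.{u} := fun U K => ∃ (C : CochainComplex U.Modules ℤ) (b : ℤ) (N : U.Modules),
  DCoh.VanishesOutside C 1 b ∧ (∀ n, FlatMod.IsFinLocFree (C.X n)) ∧ Nonempty (DCoh.HD K 0 ≅ N) ∧
    Nonempty (K ≅ DCoh.inD U N ⊞ DerivedCategory.Q.obj C)

lemma isStable_splitD : IsStable SplitD.{u} where
  iso := by
    rintro U K L e ⟨C, b, N, h1, h2, ⟨e1⟩, ⟨e2⟩⟩
    exact ⟨C, b, N, h1, h2, ⟨(DerivedCategory.homologyFunctor _ 0).mapIso e.symm ≪≫ e1⟩,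
      ⟨e.symm ≪≫ e2⟩⟩
  restrict := by
    rintro U V f _ K ⟨C, b, N, h1, h2, ⟨e1⟩, ⟨e2⟩⟩
    have := preservesBinaryBiproducts_of_preservesBiproducts (DCoh.restrictD f)
    refine ⟨((Scheme.Modules.restrictFunctor f).mapHomologicalComplex (ComplexShape.up ℤ)).obj C, b,
      N.restrict f, vanishesOutside_restrict f h1, fun n => isFinLocFree_restrict _ f (h2 n),
      ⟨HDRestrict f K 0 ≪≫ (Scheme.Modules.restrictFunctor f).mapIso e1⟩,
      ⟨(DCoh.restrictD f).mapIso e2 ≪≫ (DCoh.restrictD f).mapBiprod _ _ ≪≫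
        biprod.mapIso (PerfA.PerfLocal.restrictInD f N) (QRestrict f C)⟩⟩

variable {X T : Scheme.{u}}

/-- If `g_* O_X` is free and commutes with base change then `Rg_* O_X` splits locally. -/
theorem core (g : X ⟶ T) [IsProper g] [Flat g] [LocallyOfFinitePresentation g] (r : ℕ)
    (e : (Scheme.Modules.pushforward g).obj (Coh.structureModule X) ≅ FlatMod.freeMod T r)
    (hbc : ∀ {Z : Scheme.{u}} (t : Z ⟶ T),
      Nonempty ((Scheme.Modules.pushforward (pullback.snd g t)).obj (Coh.structureModule (pullback g t)) ≅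
        (Scheme.Modules.pullback t).obj ((Scheme.Modules.pushforward g).obj (Coh.structureModule X))))
    [DCoh.HasRpush g] :
    Locally SplitD T ((DCoh.Rpush g).obj (DCoh.inD X (Coh.structureModule X))) := by
  intro s
  let E := (DCoh.Rpush g).obj (DCoh.inD X (Coh.structureModule X))
  have hE : DCoh.IsPerfect E := ModBC.isPerfect_Rpush_inD g _ isFP_structure (isFlatOver_structure g)
    (isProperOver_support g isFP_structure)
  let i : FlatMod.freeMod T r ⟶ DCoh.HD E 0 := e.inv ≫ (H0Fibre.HDzero g _).inv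
  have hi : Mono i := mono_comp _ _
  obtain ⟨V, hsV, C, b, N, hC1, hC2, hC3, hC4⟩ := K233.SplitR.exists_split E hE r i s (by
    rintro U k _ u₀ rfl M hM ⟨eM⟩
    let g₀ := U.fromSpecResidueField u₀
    have i1 := LpullKit.hasLpull g₀
    have i2 := LpullKit.hasLpull (g₀ ≫ k)
    have i3 := DerSch.hasRpush (pullback.snd g (g₀ ≫ k))
    obtain ⟨a⟩ := ModBC.nonempty_baseChange g (g₀ ≫ k) (Coh.structureModule X)
      (Ega2.QCohLocal.isQCoh_structureModule X) (isFlatOver_structure g)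
    let N := ((Scheme.Modules.pullback g₀).mapHomologicalComplex (ComplexShape.up ℤ)).obj M
    let eN : DerivedCategory.Q.obj N ≅ (DCoh.Rpush (pullback.snd g (g₀ ≫ k))).obj
        (DCoh.inD _ (Coh.structureModule _)) :=
      (LpullKit.lpullQ g₀ M hM).symm ≪≫ (DCoh.Lpull g₀).mapIso eM.symm ≪≫
        (LpullKit.lpullRestrict g₀ k E).symm ≪≫ a ≪≫
        (DCoh.Rpush (pullback.snd g (g₀ ≫ k))).mapIso
          ((DerivedCategory.singleFunctor _ 0).mapIso (TensUnit.pullbackUnit _))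
    let eH : ∀ n, N.homology n ≅ DCoh.HD ((DCoh.Rpush (pullback.snd g (g₀ ≫ k))).obj
        (DCoh.inD _ (Coh.structureModule _))) n := fun n =>
      ((DerivedCategory.homologyFunctorFactors _ n).app N).symm ≪≫
        (DerivedCategory.homologyFunctor _ n).mapIso eN
    obtain ⟨c⟩ := hbc (g₀ ≫ k)
    exact ⟨fun n hn => (H0Fibre.isZero_HD_neg _ _ n hn).of_iso (eH n),
      ⟨eH 0 ≪≫ H0Fibre.HDzero _ _ ≪≫ c ≪≫ (Scheme.Modules.pullback (g₀ ≫ k)).mapIso e ≪≫
        FlatPull.pullbackFreeMod (g₀ ≫ k) r⟩⟩)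
  exact ⟨V, hsV, C, b, N, hC1, hC2, hC3, hC4⟩

/-- `(f_V)_* O ≅ (f_* O)|_V`. -/
theorem nonempty_push_restrict (f : X ⟶ T) [QuasiCompact f] [QuasiSeparated f] (V : T.Opens) :
    Nonempty (((Scheme.Modules.pushforward f).obj (Coh.structureModule X)).restrict V.ι ≅
      (Scheme.Modules.pushforward (f ∣_ V)).obj (Coh.structureModule (f ⁻¹ᵁ V : Scheme.{u}))) := by
  have := DerSch.hasRpush f
  have := DerSch.hasRpush (f ∣_ V)
  obtain ⟨e⟩ := H0Fibre.nonempty_restrict_Rpush_inD f V (Coh.structureModule X)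
  exact ⟨(Scheme.Modules.restrictFunctor V.ι).mapIso (H0Fibre.HDzero f _).symm ≪≫
    (HDRestrict V.ι _ 0).symm ≪≫ (DerivedCategory.homologyFunctor _ 0).mapIso e ≪≫
    H0Fibre.HDzero (f ∣_ V) _ ≪≫
    (Scheme.Modules.pushforward (f ∣_ V)).mapIso (structureRestrict (f ⁻¹ᵁ V).ι)⟩

/-- If `g_* O_X` is finite locally free and commutes with base change, locally on the base, then
`Rg_* O_X` splits locally. -/
theorem locally_splitD (f : X ⟶ T) [IsProper f] [Flat f] [LocallyOfFinitePresentation f]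
    (hf : FlatMod.IsFinLocFree ((Scheme.Modules.pushforward f).obj (Coh.structureModule X)))
    (hbc : ∀ (V : T.Opens) {Z : Scheme.{u}} (t : Z ⟶ V),
      Nonempty ((Scheme.Modules.pushforward (pullback.snd (f ∣_ V) t)).obj
          (Coh.structureModule (pullback (f ∣_ V) t)) ≅
        (Scheme.Modules.pullback t).obj ((Scheme.Modules.pushforward (f ∣_ V)).obj
          (Coh.structureModule (f ⁻¹ᵁ V : Scheme.{u})))))
    [DCoh.HasRpush f] :
    Locally SplitD T ((DCoh.Rpush f).obj (DCoh.inD X (Coh.structureModule X))) := by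
  apply locally_of_locally isStable_splitD
  intro x
  obtain ⟨V, r, hxV, ⟨e⟩⟩ := hf x
  refine ⟨V, hxV, ?_⟩
  have i1 := DerSch.hasRpush (f ∣_ V)
  obtain ⟨a⟩ := nonempty_push_restrict f V
  obtain ⟨e2⟩ := H0Fibre.nonempty_restrict_Rpush_inD f V (Coh.structureModule X)
  refine isStable_splitD.locally.iso ?_ (core (f ∣_ V) r (a.symm ≪≫ e) (hbc V))
  exact (DCoh.Rpush (f ∣_ V)).mapIso ((DerivedCategory.singleFunctor _ 0).mapIso
      (structureRestrict (f ⁻¹ᵁ V).ι).symm) ≪≫ e2.symm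

end K233.SplitLoc
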