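import Groth.Agent.CAlgX.K581.McCoy
import Groth.Agent.Dcoh.FreeSec
import Groth.Agent.PerfB.SplitH0

/-!
# Splitting off `H^0` from a perfect complex whose `H^0` is free of rank `r` and whose fibre at `s` is in
degrees `≥ 0` with `H^0` of rank `r`

* `lin_eq_zero`: `b ∘ a = 0` with `a : R^r → R^r` injective implies `b = 0` (McCoy).
* `exists_split`: near `s`, `E ≅ N ⊞ C` with `N ≅ H^0(E)` finite locally free and `C` strictly perfect in
  degrees `≥ 1`.
-/

set_option autoImplicit false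
universe u
open CategoryTheory CategoryTheory.Limits AlgebraicGeometry
attribute [local instance] HasDerivedCategory.standard

namespace K233.SplitR
open Groth.Agent Groth.Agent.CycB.StalkExact

theorem lin_eq_zero {R : Type u} [CommRing R] {r m : ℕ} (a : (Fin r → R) →ₗ[R] (Fin r → R))
    (ha : Function.Injective a) (b : (Fin r → R) →ₗ[R] (Fin m → R)) (h : ∀ x, b (a x) = 0) : b = 0 := by
  have h1 := K581.McCoy.annihilator_of_injective (LinearMap.toMatrix' a) (by
    rw [← Matrix.toLin'_apply', Matrix.toLin'_toMatrix']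
    exact ha)
  have h2 : ∀ y, (LinearMap.toMatrix' a).det • b y = 0 := by
    intro y
    have h3 : (LinearMap.toMatrix' a).det • y = a ((LinearMap.toMatrix' a).adjugate.mulVec y) := by
      conv_rhs => rw [← Matrix.toLin'_toMatrix' a]
      rw [Matrix.toLin'_apply, LinearMap.toMatrix'_toLin', Matrix.mulVec_mulVec, Matrix.mul_adjugate, Matrix.smul_mulVec, Matrix.one_mulVec]
    rw [← map_smul, h3, h]
  have h4 : ∀ d ∈ CAlgX.minorIdeal (LinearMap.toMatrix' a) r, ∀ y, d • b y = 0 := by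
    intro d hd y
    have h5 : CAlgX.minorIdeal (LinearMap.toMatrix' a) r ≤ Ideal.span {(LinearMap.toMatrix' a).det} := by
      rw [Groth.Agent.CalgB.Minors.minorIdeal_le_iff]
      intro f g
      rw [K581.McCoy.det_submatrix_col]
      apply Ideal.mul_mem_right
      have h6 : (LinearMap.toMatrix' a).submatrix f id =
          (1 : Matrix (Fin r) (Fin r) R).submatrix f id * LinearMap.toMatrix' a := by
        ext i j
        simp [Matrix.mul_apply, Matrix.one_apply]
      rw [h6, Matrix.det_mul]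
      exact Ideal.mul_mem_left _ _ (Ideal.mem_span_singleton_self _)
    obtain ⟨c, rfl⟩ := Ideal.mem_span_singleton'.1 (h5 hd)
    rw [mul_smul, h2, smul_zero]
  ext y j
  have h7 : b (Pi.single y 1) j ∈ (CAlgX.minorIdeal (LinearMap.toMatrix' a) r).annihilator := by
    rw [Submodule.mem_annihilator]
    intro d hd
    have := congrFun (h4 d hd (Pi.single y 1)) j
    rw [smul_eq_mul, mul_comm]
    exact this
  rw [h1] at h7
  simpa using h7

variable {X : Scheme.{u}}

theorem eq_zero_of_mono_comp {r m : ℕ} (a : FlatMod.freeMod X r ⟶ FlatMod.freeMod X r) [Mono a]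
    (b : FlatMod.freeMod X r ⟶ FlatMod.freeMod X m) (h : a ≫ b = 0) : b = 0 := by
  apply Dcoh.StalkMod.hom_ext_stalk
  intro x
  let A := (Dcoh.FreeSec.stalkFree (X := X) r x).symm.toLinearMap ∘ₗ stalkLin a x ∘ₗ
    (Dcoh.FreeSec.stalkFree r x).toLinearMap
  let B := (Dcoh.FreeSec.stalkFree (X := X) m x).symm.toLinearMap ∘ₗ stalkLin b x ∘ₗ
    (Dcoh.FreeSec.stalkFree r x).toLinearMap
  have hA : Function.Injective A := by
    simp only [A, LinearMap.coe_comp, LinearEquiv.coe_coe]
    exact (LinearEquiv.injective _).comp ((stalkLin_injective a x).comp (LinearEquiv.injective _))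
  have h0 : stalkLin (0 : FlatMod.freeMod X r ⟶ FlatMod.freeMod X m) x = 0 := Dcoh.StalkMod.stalkLin_zero x
  have hB : B = 0 := lin_eq_zero A hA B (fun z => by
    have h1 := LinearMap.congr_fun (stalkLin_comp a b x) (Dcoh.FreeSec.stalkFree r x z)
    rw [h, h0] at h1
    simp only [A, B, LinearMap.comp_apply, LinearEquiv.coe_coe, LinearEquiv.apply_symm_apply]
    rw [← LinearMap.comp_apply, ← h1, LinearMap.zero_apply, map_zero])
  rw [h0]
  ext z
  have h2 := LinearMap.congr_fun hB ((Dcoh.FreeSec.stalkFree r x).symm z)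
  simpa [B] using h2

open Groth.Agent.Dcoh Groth.Agent.Dcoh.LocalD Groth.Agent.PerfB Groth.Agent.PerfB.MinModel

/-- The differential `d^0` vanishes if `O^r` embeds in `H^0`, `F^{-1} = 0`, `F^0 ≅ O^r` and `F^1 ≅ O^m`. -/
theorem d_eq_zero {V : Scheme.{u}} (F : CochainComplex V.Modules ℤ) {r m : ℕ}
    (h1 : IsZero (F.X (-1))) (e0 : F.X 0 ≅ FlatMod.freeMod V r) (e1 : F.X 1 ≅ FlatMod.freeMod V m)
    (a : FlatMod.freeMod V r ⟶ F.homology 0) [Mono a] : F.d 0 1 = 0 := by
  have hd : F.d (-1) 0 = 0 := h1.eq_of_src _ _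
  have i1 : IsIso (F.homologyπ 0) := by
    refine F.isIso_homologyπ (-1) 0 (by simp) hd
  let i : FlatMod.freeMod V r ⟶ F.X 0 := a ≫ inv (F.homologyπ 0) ≫ F.iCycles 0
  have hi : Mono i := inferInstance
  have hc : i ≫ F.d 0 1 = 0 := by simp [i]
  have h2 := eq_zero_of_mono_comp (i ≫ e0.hom) (e0.inv ≫ F.d 0 1 ≫ e1.hom) (by
    rw [Category.assoc, e0.hom_inv_id_assoc, reassoc_of% hc, zero_comp])
  rw [← cancel_epi e0.inv, ← cancel_mono e1.hom, Category.assoc, h2, comp_zero, zero_comp]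

variable {S : Scheme.{u}}

/-- Near `s`, a perfect object `E` with a monomorphism `O_S^r ⟶ H^0(E)` and such that the fibre at `s` is in
degrees `≥ 0` with `H^0` of rank `r` splits as `H^0(E) ⊕ C` with `C` strictly perfect in degrees `≥ 1`. -/
theorem exists_split (E : DCoh.D S) (hE : DCoh.IsPerfect E) (r : ℕ)
    (i : FlatMod.freeMod S r ⟶ DCoh.HD E 0) [Mono i] (s : S)
    (hfib : ∀ (U : Scheme.{u}) (k : U ⟶ S) [IsOpenImmersion k] (u₀ : U) (_ : k u₀ = s)
      (M : CochainComplex U.Modules ℤ) (_ : DCoh.IsStrictlyPerfect M)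
      (_ : Nonempty ((DCoh.restrictD k).obj E ≅ DerivedCategory.Q.obj M)),
      (∀ n : ℤ, n < 0 → IsZero ((((Scheme.Modules.pullback (U.fromSpecResidueField u₀)).mapHomologicalComplex
        (ComplexShape.up ℤ)).obj M).homology n)) ∧
      Nonempty ((((Scheme.Modules.pullback (U.fromSpecResidueField u₀)).mapHomologicalComplex
        (ComplexShape.up ℤ)).obj M).homology 0 ≅ FlatMod.freeMod (Spec (U.residueField u₀)) r)) :
    ∃ (V : S.Opens) (_ : s ∈ V) (C : CochainComplex (V : Scheme.{u}).Modules ℤ) (b : ℤ)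
      (N : (V : Scheme.{u}).Modules),
      DCoh.VanishesOutside C 1 b ∧ (∀ n, FlatMod.IsFinLocFree (C.X n)) ∧
      Nonempty (DCoh.HD ((DCoh.restrictD V.ι).obj E) 0 ≅ N) ∧
      Nonempty ((DCoh.restrictD V.ι).obj E ≅
        DCoh.inD (V : Scheme.{u}) N ⊞ DerivedCategory.Q.obj C) := by
  obtain ⟨V₀, hs₀, E₀, hE₀, ⟨a₀⟩⟩ := (isPerfect_iff_locally E).1 hE s
  obtain ⟨U, j, hj, u₀, hu₀, M, φ, m, a, b, hφ, hM, hm, hmin⟩ :=
    exists_minModel_of_isStrictlyPerfect (⟨s, hs₀⟩ : (V₀ : Scheme.{u})) E₀ hE₀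
  let k : U ⟶ S := j ≫ V₀.ι
  have hku : k u₀ = s := by
    change (j ≫ V₀.ι) u₀ = s
    rw [Scheme.Hom.comp_apply, hu₀]
    rfl
  have hQφ : IsIso (DerivedCategory.Q.map φ) := inferInstance
  let eM : (DCoh.restrictD k).obj E ≅ DerivedCategory.Q.obj M :=
    ((restrictComp j V₀.ι).app E).symm ≪≫ (DCoh.restrictD j).mapIso a₀ ≪≫ QRestrict j E₀ ≪≫
      asIso (DerivedCategory.Q.map φ)
  have hMperf : DCoh.IsStrictlyPerfect M := isStrictlyPerfect_of_termsFree hm hM
  obtain ⟨hneg, ⟨hz⟩⟩ := hfib U k u₀ hku M hMperf ⟨eM⟩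
  -- the fibre complex
  let g := U.fromSpecResidueField u₀
  let N := ((Scheme.Modules.pullback g).mapHomologicalComplex (ComplexShape.up ℤ)).obj M
  have hN : ∀ n, N.d n (n + 1) = 0 := hmin
  have eN : ∀ n, N.homology n ≅ FlatMod.freeMod (Spec (U.residueField u₀)) (m n) := fun n =>
    FreeRank.homologyIsoOfZero N n hN ≪≫ (Scheme.Modules.pullback g).mapIso (hM n).some ≪≫
      FlatPull.pullbackFreeMod g (m n)
  let z : Spec (U.residueField u₀) := Classical.arbitrary _
  have hmneg : ∀ n : ℤ, n < 0 → m n = 0 := fun n hn =>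
    FreeRank.rank_eq_zero z ((hneg n hn).of_iso (eN n).symm)
  have hm0 : m 0 = r :=
    FreeRank.rank_eq z ((eN 0).symm ≪≫ hz)
  -- transport to an open subset
  let V : S.Opens := k.opensRange
  let e : (V : Scheme.{u}) ⟶ U := k.isoOpensRange.inv
  have he : e ≫ k = V.ι := k.isoOpensRange_inv_comp
  let F := ((Scheme.Modules.restrictFunctor e).mapHomologicalComplex (ComplexShape.up ℤ)).obj M
  let eF : (DCoh.restrictD V.ι).obj E ≅ DerivedCategory.Q.obj F :=
    ((restrictCompEq he).app E).symm ≪≫ (DCoh.restrictD e).mapIso eM ≪≫ QRestrict e M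
  have eFX : ∀ n, Nonempty (F.X n ≅ FlatMod.freeMod V (m n)) := fun n =>
    ⟨(Scheme.Modules.restrictFunctor e).mapIso (hM n).some ≪≫ freeModRestrict e (m n)⟩
  have hFz : ∀ n, m n = 0 → IsZero (F.X n) := fun n hn => by
    have e1 := (eFX n).some
    rw [hn] at e1
    exact (MinModel.isZero_freeMod_zero _).of_iso e1
  have hFfree : ∀ n, FlatMod.IsFinLocFree (F.X n) := fun n =>
    isFinLocFree_of_iso (eFX n).some.symm (MinModel.isFinLocFree_freeMod _ _)
  have eF0 : F.X 0 ≅ FlatMod.freeMod (V : Scheme.{u}) r := by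
    have e1 := (eFX 0).some
    rw [hm0] at e1
    exact e1
  -- the monomorphism
  let α : FlatMod.freeMod (V : Scheme.{u}) r ⟶ F.homology 0 :=
    (freeModRestrict V.ι r).inv ≫ (Scheme.Modules.restrictFunctor V.ι).map i ≫
      (HDRestrict V.ι E 0).inv ≫ (DerivedCategory.homologyFunctor _ 0).map eF.hom ≫
      (DerivedCategory.homologyFunctorFactors _ 0).hom.app F
  have hα : Mono α := by
    have m1 : Mono ((Scheme.Modules.restrictFunctor V.ι).map i) := inferInstance
    have m2 : IsIso ((DerivedCategory.homologyFunctorFactors (V : Scheme.{u}).Modules 0).hom.app F) :=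
      inferInstance
    have m3 : IsIso ((DerivedCategory.homologyFunctor (V : Scheme.{u}).Modules 0).map eF.hom) :=
      inferInstance
    have m4 : Mono ((HDRestrict V.ι E 0).inv) := inferInstance
    have m5 : Mono ((freeModRestrict V.ι r).inv) := inferInstance
    have m6 : Mono ((DerivedCategory.homologyFunctorFactors (V : Scheme.{u}).Modules 0).hom.app F) :=
      @IsIso.mono_of_iso _ _ _ _ _ m2
    exact mono_comp' m5 (mono_comp' m1 (mono_comp' m4 (mono_comp' inferInstance m6)))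
  have hd0 : F.d 0 1 = 0 := d_eq_zero F (hFz _ (hmneg _ (by norm_num))) eF0 (eFX 1).some α
  have hdm : F.d (0 - 1) 0 = 0 := (hFz _ (hmneg _ (by norm_num))).eq_of_src _ _
  refine ⟨V, ⟨u₀, hku⟩, SplitCx.compl F 0 hdm, b, F.X 0, ?_, ?_, ⟨?_⟩, ⟨?_⟩⟩
  · intro n hn
    by_cases h0 : n = 0
    · subst h0
      exact SplitCx.isZero_compl_X_self F 0 hdm
    · refine SplitCx.isZero_compl_X F 0 hdm n h0 (hFz n ?_)
      rcases hn with hn | hn
      · exact hmneg n (by lia)
      · exact hm n (Or.inr hn)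
  · intro n
    by_cases h0 : n = 0
    · subst h0
      exact FinLocFree.isFinLocFree_of_isZero (SplitCx.isZero_compl_X_self F 0 hdm)
    · exact isFinLocFree_of_iso (SplitCx.complX F 0 hdm n h0).symm (hFfree n)
  · have i1 : IsIso (F.homologyπ 0) := F.isIso_homologyπ (0 - 1) 0 (by simp) hdm
    have i2 : IsIso (F.iCycles 0) := F.isIso_iCycles 0 1 (by simp) hd0
    exact (DerivedCategory.homologyFunctor _ 0).mapIso eF ≪≫
      (DerivedCategory.homologyFunctorFactors _ 0).app F ≪≫ (asIso (F.homologyπ 0)).symm ≪≫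
      asIso (F.iCycles 0)
  · exact eF ≪≫ SplitCx.splitIsoQ F 0 hd0 hdm

end K233.SplitR
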