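import Groth.Agent.Dcoh.PushFLF304
import Groth.Agent.Ega2.QCohLocal
import Groth.Agent.S0017
import Groth.Agent.PerfB.FiberUnit
import Groth.Agent.PerfB.TensUnit
import Groth.Prelude.Def_Mor2

/-!
# Direct images of the structure sheaf along Stein factorisations

* `pushIso`: `f_* O_X ≅ p_* O_N` when `f = h ≫ p` and `h_* O_X = O_N`;
* `isFinLocFree_push`: `p_* O_N` is finite locally free for `p` finite locally free;
* `nonempty_bc`: formation of `f_* O_X` commutes with every base change when `f = h ≫ p` with `p` affine and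
  `h_* O_X = O_N` universally.
-/

set_option autoImplicit false
universe u
open CategoryTheory CategoryTheory.Limits AlgebraicGeometry

namespace K233.SteinPush

open Groth.Agent Groth.Agent.PerfB

variable {X N S : Scheme.{u}}

theorem isIso_unitMap (h : X ⟶ N) (hh : ∀ U : N.Opens, IsIso (h.app U)) : IsIso (UnitMono.unitMap h) := by
  rw [Scheme.Modules.Hom.isIso_iff_isIso_app]
  intro U
  have := hh U
  exact FiberUnit.isIso_unitMap_app h ((ConcreteCategory.isIso_iff_bijective (h.app U)).mp this)

/-- `f_* O_X ≅ p_* O_N` when `f = h ≫ p` and `h_* O_X = O_N`. -/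
noncomputable def pushIso (f : X ⟶ S) (h : X ⟶ N) (p : N ⟶ S) (hf : h ≫ p = f)
    (hh : ∀ U : N.Opens, IsIso (h.app U)) :
    (Scheme.Modules.pushforward f).obj (Coh.structureModule X) ≅
      (Scheme.Modules.pushforward p).obj (Coh.structureModule N) :=
  have := isIso_unitMap h hh
  (Scheme.Modules.pushforwardCongr hf.symm).app _ ≪≫
    (Scheme.Modules.pushforwardComp h p).symm.app _ ≪≫
    (Scheme.Modules.pushforward p).mapIso (asIso (UnitMono.unitMap h)).symm

/-- The direct image of the structure sheaf along a finite locally free morphism is finite locally free. -/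
theorem isFinLocFree_push (f : X ⟶ S) [IsFinite f] [Flat f] [LocallyOfFinitePresentation f] :
    FlatMod.IsFinLocFree ((Scheme.Modules.pushforward f).obj (Coh.structureModule X)) := by
  refine Groth.Agent.Dcoh.PushFLF304.isFinLocFree_pushforward' f
    (Groth.Agent.Ega2.QCohLocal.isQCoh_structureModule X) (fun V => IsAffineOpen V) ?_ ?_
  · intro x
    obtain ⟨V, hV, hx, -⟩ := (TopologicalSpace.Opens.isBasis_iff_nbhd.mp S.isBasis_affineOpens)
      (show x ∈ (⊤ : S.Opens) from trivial)
    exact ⟨V, hV, hV, hx⟩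
  · intro V _ hV
    have e1 : (f.app V).hom.Finite := f.finite_app V hV
    have e2 : (f.app V).hom.Flat := by
      have := f.flat_appLE hV (hV.preimage f) le_rfl
      rwa [Scheme.Hom.appLE_eq_app] at this
    have e3 : (f.app V).hom.FinitePresentation := by
      have := f.finitePresentation_appLE hV (hV.preimage f) le_rfl
      rwa [Scheme.Hom.appLE_eq_app] at this
    let a1 : Algebra Γ(S, V) Γ(X, f ⁻¹ᵁ V) := (f.app V).hom.toAlgebra
    have i1 : Module.Finite Γ(S, V) Γ(X, f ⁻¹ᵁ V) := e1
    have i2 : Module.Flat Γ(S, V) Γ(X, f ⁻¹ᵁ V) := e2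
    have i3 : Algebra.FinitePresentation Γ(S, V) Γ(X, f ⁻¹ᵁ V) := e3
    have i4 : Module.FinitePresentation Γ(S, V) Γ(X, f ⁻¹ᵁ V) :=
      Module.FinitePresentation.of_finite_of_finitePresentation _ _
    have i5 : Module.Projective Γ(S, V) Γ(X, f ⁻¹ᵁ V) := Module.Flat.projective_of_finitePresentation
    exact ⟨i1, i5⟩

/-- Base change for `f_* O_X` when `f = h ≫ p` with `p` affine and `h_* O_X = O_N` universally. -/
theorem nonempty_bc (f : X ⟶ S) (h : X ⟶ N) (p : N ⟶ S) (hf : h ≫ p = f) [IsAffineHom p]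
    (hh : ∀ {X' N' : Scheme.{u}} (g' : X' ⟶ X) (h' : X' ⟶ N') (g : N' ⟶ N), IsPullback g' h' h g →
      ∀ U : N'.Opens, IsIso (h'.app U)) {T : Scheme.{u}} (t : T ⟶ S) :
    Nonempty ((Scheme.Modules.pushforward (pullback.snd f t)).obj (Coh.structureModule (pullback f t)) ≅
      (Scheme.Modules.pullback t).obj ((Scheme.Modules.pushforward f).obj (Coh.structureModule X))) := by
  subst hf
  let hT : pullback (h ≫ p) t ⟶ pullback p t :=
    pullback.lift (pullback.fst (h ≫ p) t ≫ h) (pullback.snd (h ≫ p) t) (by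
      rw [Category.assoc, pullback.condition])
  have e1 : hT ≫ pullback.fst p t = pullback.fst (h ≫ p) t ≫ h := pullback.lift_fst _ _ _
  have e2 : hT ≫ pullback.snd p t = pullback.snd (h ≫ p) t := pullback.lift_snd _ _ _
  have sq : IsPullback (pullback.fst (h ≫ p) t) hT h (pullback.fst p t) := by
    have big := IsPullback.of_hasPullback (h ≫ p) t
    rw [← e2] at big
    exact IsPullback.of_bot big e1.symm (IsPullback.of_hasPullback p t)
  have hq : Coh.IsQCoh (Coh.structureModule N) := Ega2.QCohLocal.isQCoh_structureModule N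
  obtain ⟨a⟩ := S0017.result p t (pullback.fst p t) (pullback.snd p t) (IsPullback.of_hasPullback p t)
    (Coh.structureModule N)
  have hid : IsPullback (𝟙 X) h h (𝟙 N) := IsPullback.of_id_fst
  exact ⟨pushIso _ hT (pullback.snd p t) e2 (hh _ _ _ sq) ≪≫
    (Scheme.Modules.pushforward (pullback.snd p t)).mapIso (TensUnit.pullbackUnit (pullback.fst p t)).symm ≪≫
    a.symm ≪≫ (Scheme.Modules.pullback t).mapIso (pushIso _ h p rfl (hh _ _ _ hid)).symm⟩

end K233.SteinPush
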